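import Cfsg.Agent.Lib.Helper33.KS.KDefs

/-!
# K-S 12.3, piece C0 (helper88 for helper33's farm)
-/

set_option autoImplicit false

namespace Cfsg.Agent.Lib.Helper88.KS

open Subgroup
open Cfsg.Agent.Lib.Helper22 (conjS mem_conjS conjS_mem conjS_mul conjS_one conjS_eq_of_mem_normalizer)
open Cfsg.Agent.Lib.Helper48 (ZN MS)
open Cfsg.Agent.Lib.Helper33.KS

universe u

variable {G : Type u} [Group G] [Finite G] {M T K L : Subgroup G}

theorem sylow_mem_maxStraddling (S : Sylow 2 G) (hSM : (S : Subgroup G) ≤ M) (hS1 : (S : Subgroup G) ≠ ⊥)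
    (hex : ∃ N : Subgroup G, Cfsg.IsTwoLocal N ∧ (S : Subgroup G) ≤ N ∧ ¬ N ≤ M) :
    (S : Subgroup G) ∈ Cfsg.maxStraddlingTwoSubgroups M := by
  have : Fact (Nat.Prime 2) := ⟨Nat.prime_two⟩
  refine ⟨⟨S.2, hS1, hSM, hex⟩, ?_⟩
  intro T' hT'
  obtain ⟨hT2, -, -, -⟩ := hT'
  obtain ⟨g, -, hg⟩ :=
    (Cfsg.Agent.Lib.Helper47.isSylowIn_of_sylow S le_top).exists_conj_ge hT2 le_top
  change T' ≤ conjS g (S : Subgroup G) at hg
  obtain ⟨A, hA⟩ := Cfsg.Agent.Lib.Helper48.exists_mea (S : Subgroup G)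
  obtain ⟨A', hA'⟩ := Cfsg.Agent.Lib.Helper48.exists_mea T'
  have hAg := hA.conj g
  rw [Cfsg.Agent.Lib.Helper48.maxElemAbelianOrder_eq hA,
    Cfsg.Agent.Lib.Helper48.maxElemAbelianOrder_eq hA']
  have h1 : Nat.card A' ≤ Nat.card A := by
    have := hAg.2.2 A' (hA'.1.trans hg) hA'.2.1
    rwa [Cfsg.Agent.Lib.Helper48.card_conjS] at this
  refine ⟨h1, fun hc => ⟨?_, fun _ => ?_⟩⟩
  · have h2 := Cfsg.Agent.Lib.Helper48.J_le_J_of_card hA' hAg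
      (by rw [Cfsg.Agent.Lib.Helper48.card_conjS]; exact hc)
      ((Cfsg.Agent.Lib.Helper48.thompsonSubgroupOf_le' 2 T').trans hg)
    have h3 := Subgroup.card_le_of_le h2
    rwa [Cfsg.Agent.Lib.Helper48.thompsonSubgroupOf_conjS,
      Cfsg.Agent.Lib.Helper48.card_conjS] at h3
  · have h3 := Subgroup.card_le_of_le hg
    rwa [Cfsg.Agent.Lib.Helper48.card_conjS] at h3

theorem exists_sylow_ge (S : Sylow 2 G) (hMJ : normalizer (JT (S : Subgroup G) : Set G) ≤ M)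
    (hT2 : IsPGroup 2 T) (hTM : T ≤ M) :
    ∃ S' : Sylow 2 G, T ≤ S' ∧ normalizer (JT (S' : Subgroup G) : Set G) ≤ M := by
  have : Fact (Nat.Prime 2) := ⟨Nat.prime_two⟩
  have hSM := Cfsg.Agent.Lib.Helper48.sylow_le_of S hMJ
  obtain ⟨m, hm, hTm⟩ :=
    (Cfsg.Agent.Lib.Helper47.isSylowIn_of_sylow S hSM).exists_conj_ge hT2 hTM
  change T ≤ conjS m (S : Subgroup G) at hTm
  have hcoe : ((MulAut.conj m • S : Sylow 2 G) : Subgroup G) = conjS m (S : Subgroup G) := rfl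
  refine ⟨MulAut.conj m • S, by rw [hcoe]; exact hTm, ?_⟩
  rw [hcoe]
  change normalizer ((Cfsg.thompsonSubgroupOf 2 (conjS m (S : Subgroup G)) : Subgroup G) : Set G) ≤ M
  rw [Cfsg.Agent.Lib.Helper48.thompsonSubgroupOf_conjS]
  intro x hx
  have h1 := Cfsg.Agent.Lib.Helper48.le_normalizer_conjS m⁻¹ (zpowers_le.mpr hx)
  rw [Cfsg.Agent.Lib.Helper48.conjS_inv_conjS] at h1
  have h2 : m⁻¹ * x * m⁻¹⁻¹ ∈ M := hMJ (h1 (conjS_mem (mem_zpowers x)))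
  have h3 := mul_mem (mul_mem hm h2) (inv_mem hm)
  have e : m * (m⁻¹ * x * m⁻¹⁻¹) * m⁻¹ = x := by group
  rwa [e] at h3

end Cfsg.Agent.Lib.Helper88.KS
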