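import Cfsg.Agent.Lib.Helper88.KS.C2a
import Cfsg.Agent.Lib.Helper1.KS.A3
import Cfsg.Agent.Lib.Helper70.KS.C1

/-!
# K-S 12.3, piece C2 (helper88 for helper33's farm)
-/

set_option autoImplicit false

namespace Cfsg.Agent.Lib.Helper88.KS

open Subgroup
open Cfsg.Agent.Lib.Helper22 (conjS mem_conjS conjS_mem conjS_mul conjS_one conjS_eq_of_mem_normalizer)
open Cfsg.Agent.Lib.Helper48 (ZN MS)
open Cfsg.Agent.Lib.Helper33.KS

universe u

variable {G : Type u} [Group G] [Finite G] {M T K L : Subgroup G}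

theorem exists_second (hII : CaseII G) (S : Sylow 2 G)
    (h : KD (normalizer (JT (S : Subgroup G) : Set G)) (S : Subgroup G) K L) :
    ∃ Y' : Subgroup G, Y' ≤ Z0 (S : Subgroup G) ∧ Nat.card (Z0 (S : Subgroup G)) = 2 * Nat.card Y' ∧
      YY (S : Subgroup G) K ⊓ Y' = ⊥ ∧
      (∀ y' ∈ Y', y' ≠ 1 → ¬ centralizer ({y'} : Set G) ≤ normalizer ((S : Subgroup G) : Set G)) ∧
      ∀ t ∈ (S : Subgroup G), ∀ y ∈ YY (S : Subgroup G) K, y ≠ 1 → t * y * t⁻¹ ∉ Y' :=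
  exists_second_aux S h
    (fun _ hK' => Cfsg.Agent.Lib.Helper1.KS.card_Z0 h.ms.zn h.ms.hT2 h.ms.hT1 hK')
    (Cfsg.Agent.Lib.Helper70.KS.dichotomy hII S h)

end Cfsg.Agent.Lib.Helper88.KS
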