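import Cfsg.Agent.Lib.Helper8.KS.A5

/-!
# K-S 12.3, piece C2, core (helper88 for helper33's farm)
-/

set_option autoImplicit false

namespace Cfsg.Agent.Lib.Helper88.KS

open Subgroup
open Cfsg.Agent.Lib.Helper22 (conjS mem_conjS conjS_mem conjS_mul conjS_one conjS_eq_of_mem_normalizer)
open Cfsg.Agent.Lib.Helper48 (ZN MS)
open Cfsg.Agent.Lib.Helper33.KS
open Cfsg.Agent.Lib.Helper8.KS (comp_not_le_normalizer_J cent_le mem_of_conj_mem)

universe u

variable {G : Type u} [Group G] {M T K L : Subgroup G}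


/-- `K ⊔ J(T) ≤ C(u)` for `u ∈ Y`. -/
theorem sup_le_centralizer_of_mem_YY {u : G} (hu : u ∈ YY T K) :
    K ⊔ JT T ≤ centralizer ({u} : Set G) := by
  have hu1 : u ∈ Z0 T := hu.1
  have hu2 : u ∈ centralizer (K : Set G) := hu.2
  have hu3 : u ∈ centralizer (JT T : Set G) :=
    ((Cfsg.Agent.Lib.Helper48.omegaCenterOf_le (JT T)) hu1).2
  refine sup_le ?_ ?_
  · intro k hk
    rw [mem_centralizer_singleton_iff]
    exact (mem_centralizer_iff.mp hu2 k hk)
  · intro k hk
    rw [mem_centralizer_singleton_iff]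
    exact (mem_centralizer_iff.mp hu3 k hk)

theorem conj_ne_one {g y : G} (hy : y ≠ 1) : g * y * g⁻¹ ≠ 1 := by
  intro h
  apply hy
  have : y = g⁻¹ * (g * y * g⁻¹) * g := by group
  rw [this, h]; group

/-- `conjS g X ≤ C(g u g⁻¹)` if `X ≤ C(u)`. -/
theorem conjS_le_centralizer_conj {X : Subgroup G} {u : G} (g : G)
    (h : X ≤ centralizer ({u} : Set G)) : conjS g X ≤ centralizer ({g * u * g⁻¹} : Set G) := by
  rintro _ ⟨x, hx, rfl⟩
  have h1 := mem_centralizer_singleton_iff.mp (h hx)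
  rw [mem_centralizer_singleton_iff]
  change g * x * g⁻¹ * (g * u * g⁻¹) = g * u * g⁻¹ * (g * x * g⁻¹)
  calc g * x * g⁻¹ * (g * u * g⁻¹) = g * (x * u) * g⁻¹ := by group
    _ = g * (u * x) * g⁻¹ := by rw [h1]
    _ = _ := by group

variable [Finite G]

theorem not_centralizer_le_of_comp (hT2 : IsPGroup 2 T) (hK : Cfsg.IsJComponent T K) {y : G}
    (hy : K ≤ centralizer ({y} : Set G)) : ¬ centralizer ({y} : Set G) ≤ normalizer (T : Set G) := by
  intro hle
  exact comp_not_le_normalizer_J hT2 hK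
    ((hy.trans hle).trans (Cfsg.Agent.Lib.Helper48.normalizer_le_normalizer_thompsonSubgroupOf 2 T))

theorem exists_second_aux (S : Sylow 2 G)
    (h : KD (normalizer (JT (S : Subgroup G) : Set G)) (S : Subgroup G) K L)
    (hcard : ∀ K' : Subgroup G, Cfsg.IsJComponent (S : Subgroup G) K' →
      Nat.card (Z0 (S : Subgroup G)) = 2 * Nat.card (YY (S : Subgroup G) K'))
    (hdich : (∃ g ∈ normalizer (JT (S : Subgroup G) : Set G), g ∉ L) ∨
      ∃ K' L', KD (normalizer (JT (S : Subgroup G) : Set G)) (S : Subgroup G) K' L' ∧ L' ≠ L) :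
    ∃ Y' : Subgroup G, Y' ≤ Z0 (S : Subgroup G) ∧ Nat.card (Z0 (S : Subgroup G)) = 2 * Nat.card Y' ∧
      YY (S : Subgroup G) K ⊓ Y' = ⊥ ∧
      (∀ y' ∈ Y', y' ≠ 1 → ¬ centralizer ({y'} : Set G) ≤ normalizer ((S : Subgroup G) : Set G)) ∧
      ∀ t ∈ (S : Subgroup G), ∀ y ∈ YY (S : Subgroup G) K, y ≠ 1 → t * y * t⁻¹ ∉ Y' := by
  have hSNJ : (S : Subgroup G) ≤ normalizer (JT (S : Subgroup G) : Set G) :=
    le_normalizer.trans (Cfsg.Agent.Lib.Helper48.normalizer_le_normalizer_thompsonSubgroupOf 2 _)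
  rcases hdich with ⟨g, hg, hgL⟩ | ⟨K', L', h', hne⟩
  · have hgZ : conjS g (Z0 (S : Subgroup G)) = Z0 (S : Subgroup G) :=
      conjS_eq_of_mem_normalizer
        (Cfsg.Agent.Lib.Helper48.normalizer_le_normalizer_omegaCenterOf _ hg)
    refine ⟨conjS g (YY (S : Subgroup G) K), ?_, ?_, ?_, ?_, ?_⟩
    · rw [← hgZ]
      exact Cfsg.Agent.Lib.Helper48.conjS_mono g inf_le_left
    · rw [Cfsg.Agent.Lib.Helper48.card_conjS]
      exact hcard K h.hK
    · rw [eq_bot_iff]
      rintro u ⟨hu1, ⟨y, hy, rfl⟩⟩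
      rw [mem_bot]
      by_contra hu
      change g * y * g⁻¹ ≠ 1 at hu
      change g * y * g⁻¹ ∈ YY (S : Subgroup G) K at hu1
      have hy1 : y ≠ 1 := by
        rintro rfl
        apply hu; group
      exact hgL (mem_of_conj_mem h hg hy hy1 hu1)
    · rintro _ ⟨y, hy, rfl⟩ hy1
      change ¬ centralizer ({g * y * g⁻¹} : Set G) ≤ _
      apply not_centralizer_le_of_comp h.ms.hT2 (MS.isJComponent_conj h.hK hg)
      exact conjS_le_centralizer_conj g (le_sup_left.trans (sup_le_centralizer_of_mem_YY hy))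
    · rintro t ht y hy hy1 ⟨y₁, hy₁, he⟩
      change g * y₁ * g⁻¹ = t * y * t⁻¹ at he
      have h1 : (g⁻¹ * t) * y * (g⁻¹ * t)⁻¹ ∈ YY (S : Subgroup G) K := by
        have : (g⁻¹ * t) * y * (g⁻¹ * t)⁻¹ = g⁻¹ * (t * y * t⁻¹) * g := by group
        rw [this, ← he]
        have : g⁻¹ * (g * y₁ * g⁻¹) * g = y₁ := by group
        rw [this]; exact hy₁
      have h2 := mem_of_conj_mem h (mul_mem (inv_mem hg) (hSNJ ht)) hy hy1 h1
      apply hgL
      have h3 := mul_mem (h.hTL.1 ht) (inv_mem h2)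
      have : t * (g⁻¹ * t)⁻¹ = g := by group
      rwa [this] at h3
  · refine ⟨YY (S : Subgroup G) K', inf_le_left, hcard K' h'.hK,
      ?_, ?_, ?_⟩
    · rw [eq_bot_iff]
      rintro u ⟨hu1, hu2⟩
      rw [mem_bot]
      by_contra hu
      exact hne (h.uniq L' h'.hL ((sup_le_centralizer_of_mem_YY hu1).trans (cent_le h' hu2 hu)))
    · intro y' hy' _
      exact not_centralizer_le_of_comp h'.ms.hT2 h'.hK
        (le_sup_left.trans (sup_le_centralizer_of_mem_YY hy'))
    · intro t ht y hy hy1 hty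
      have h1 : conjS t (K ⊔ JT (S : Subgroup G)) ≤ L' :=
        (conjS_le_centralizer_conj t (sup_le_centralizer_of_mem_YY hy)).trans
          (cent_le h' hty (conj_ne_one hy1))
      have htL : t ∈ L' := h'.hTL.1 ht
      apply hne
      apply h.uniq L' h'.hL
      intro x hx
      have h2 := h1 (conjS_mem (g := t) hx)
      have h3 := mul_mem (mul_mem (inv_mem htL) h2) htL
      have : t⁻¹ * (t * x * t⁻¹) * t = x := by group
      rwa [this] at h3

end Cfsg.Agent.Lib.Helper88.KS
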